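import Mathlib
import Groth.Prelude.Def_W4c6gradedringsgwSect
import Groth.Agent.FF.AlgClosed
import Groth.Agent.FF.Series

/-!
# The section ring of a point divisor: leading coefficients at the point
-/

set_option autoImplicit false
universe u v

open FunFld W4c6gradedringsgw Polynomial

namespace Groth.Agent.GrSectP

variable {k : Type u} {K : Type v} [Field k] [Field K] [Algebra k K]

/-- The section ring of the point divisor `P`. -/
noncomputable abbrev Rng (P : Place k K) : Subalgebra k K[X] := sectRing (Finsupp.single P 1 : Divisor k K)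

theorem mul_lt_one_left {Γ : Type*} [LinearOrderedCommGroupWithZero Γ] {a b : Γ} (ha : a ≤ 1) (hb : b < 1) : a * b < 1 :=
  lt_of_le_of_lt (mul_le_of_le_one_left' ha) hb

section Basic

variable (P : Place k K)

theorem smul_single (n : ℤ) : n • (Finsupp.single P 1 : Divisor k K) = Finsupp.single P n := by
  simp

theorem mem_L_single_iff {n : ℤ} {f : K} :
    f ∈ L (n • (Finsupp.single P 1 : Divisor k K)) ↔ P.1 f ≤ WithZero.exp n ∧ ∀ Q, Q ≠ P → Q.1 f ≤ 1 := by
  classical
  rw [smul_single]
  constructor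
  · intro h
    exact ⟨by simpa using h P, fun Q hQ => by simpa [Finsupp.single_eq_of_ne hQ] using h Q⟩
  · rintro ⟨h1, h2⟩ Q
    by_cases hQ : Q = P
    · subst hQ; simpa using h1
    · simpa [Finsupp.single_eq_of_ne hQ] using h2 Q hQ

/-- A uniformizer at `P`. -/
noncomputable def unif : K := (FF.exists_v_eq P (-1)).choose

theorem v_unif_pow (n : ℕ) : P.1 (unif P ^ n) = WithZero.exp (-(n : ℤ)) := by
  rw [map_pow, unif, (FF.exists_v_eq P (-1)).choose_spec.2, ← WithZero.exp_nsmul, nsmul_eq_mul, mul_neg_one]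

theorem v_mul_unif_pow_le {n : ℕ} {f : K} (h : P.1 f ≤ WithZero.exp (n : ℤ)) : P.1 (f * unif P ^ n) ≤ 1 := by
  rw [map_mul, v_unif_pow]
  refine (mul_le_mul' h le_rfl).trans_eq ?_
  rw [← WithZero.exp_add, add_neg_cancel, WithZero.exp_zero]

theorem v_mul_unif_pow_lt_iff {n : ℕ} {f : K} : P.1 (f * unif P ^ n) < 1 ↔ P.1 f ≤ WithZero.exp ((n : ℤ) - 1) := by
  rcases eq_or_ne f 0 with rfl | hf
  · simp
  · rw [map_mul, v_unif_pow, FF.v_eq_exp P hf, ← WithZero.exp_add, ← WithZero.exp_zero, WithZero.exp_lt_exp, WithZero.exp_le_exp]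
    omega

theorem const_unique {z : K} {c c' : k} (h : P.1 (z - algebraMap k K c) < 1) (h' : P.1 (z - algebraMap k K c') < 1) :
    c = c' := by
  by_contra hne
  have h1 : P.1 (algebraMap k K (c - c')) < 1 := by
    rw [show algebraMap k K (c - c') = (z - algebraMap k K c') - (z - algebraMap k K c) by rw [map_sub]; ring]
    exact (P.1.map_sub _ _).trans_lt (max_lt h' h)
  rw [FF.v_algebraMap P (sub_ne_zero.mpr hne)] at h1
  exact lt_irrefl _ h1

open Classical in
/-- The leading coefficient at `P` of a function with pole order at most `n`. -/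
noncomputable def lead (n : ℕ) (f : K) : k :=
  if h : ∃ c : k, P.1 (f * unif P ^ n - algebraMap k K c) < 1 then h.choose else 0

theorem lead_eq_of_lt {n : ℕ} {f : K} {c : k} (h : P.1 (f * unif P ^ n - algebraMap k K c) < 1) : lead P n f = c := by
  have he : ∃ c : k, P.1 (f * unif P ^ n - algebraMap k K c) < 1 := ⟨c, h⟩
  rw [lead, dif_pos he]
  exact const_unique P he.choose_spec h

theorem lead_zero (n : ℕ) : lead P n (0 : K) = 0 := lead_eq_of_lt P (by simp)

theorem lead_const (c : k) : lead P 0 (algebraMap k K c) = c := lead_eq_of_lt P (by simp)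

end Basic

section AC

variable [IsAlgClosed k] (hK : IsFunctionField k K) (P : Place k K)
include hK

theorem lead_spec {n : ℕ} {f : K} (h : P.1 f ≤ WithZero.exp (n : ℤ)) :
    P.1 (f * unif P ^ n - algebraMap k K (lead P n f)) < 1 := by
  obtain ⟨c, hc⟩ := FF.exists_const hK P (v_mul_unif_pow_le P h)
  rwa [lead_eq_of_lt P hc]

theorem lead_eq_zero_iff {n : ℕ} {f : K} (h : P.1 f ≤ WithZero.exp (n : ℤ)) :
    lead P n f = 0 ↔ P.1 f ≤ WithZero.exp ((n : ℤ) - 1) := by
  rw [← v_mul_unif_pow_lt_iff]
  constructor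
  · intro h0
    simpa [h0] using lead_spec hK P h
  · intro h1
    exact lead_eq_of_lt P (by simpa using h1)

theorem lead_add {n : ℕ} {f g : K} (hf : P.1 f ≤ WithZero.exp (n : ℤ)) (hg : P.1 g ≤ WithZero.exp (n : ℤ)) :
    lead P n (f + g) = lead P n f + lead P n g := by
  refine lead_eq_of_lt P ?_
  rw [map_add, show (f + g) * unif P ^ n - (algebraMap k K (lead P n f) + algebraMap k K (lead P n g)) =
    (f * unif P ^ n - algebraMap k K (lead P n f)) + (g * unif P ^ n - algebraMap k K (lead P n g)) by ring]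
  exact (P.1.map_add _ _).trans_lt (max_lt (lead_spec hK P hf) (lead_spec hK P hg))

theorem lead_smul {n : ℕ} {f : K} (c : k) (hf : P.1 f ≤ WithZero.exp (n : ℤ)) :
    lead P n (c • f) = c * lead P n f := by
  refine lead_eq_of_lt P ?_
  rw [Algebra.smul_def, map_mul, show algebraMap k K c * f * unif P ^ n - algebraMap k K c * algebraMap k K (lead P n f) =
    algebraMap k K c * (f * unif P ^ n - algebraMap k K (lead P n f)) by ring, map_mul]
  exact mul_lt_one_left (P.2.1 c) (lead_spec hK P hf)

theorem lead_mul {a b : ℕ} {f g : K} (hf : P.1 f ≤ WithZero.exp (a : ℤ)) (hg : P.1 g ≤ WithZero.exp (b : ℤ)) :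
    lead P (a + b) (f * g) = lead P a f * lead P b g := by
  refine lead_eq_of_lt P ?_
  rw [map_mul, show f * g * unif P ^ (a + b) - algebraMap k K (lead P a f) * algebraMap k K (lead P b g) =
    (f * unif P ^ a - algebraMap k K (lead P a f)) * (g * unif P ^ b) +
      algebraMap k K (lead P a f) * (g * unif P ^ b - algebraMap k K (lead P b g)) by ring]
  refine (P.1.map_add _ _).trans_lt (max_lt ?_ ?_)
  · rw [map_mul]
    rw [mul_comm]; exact mul_lt_one_left (v_mul_unif_pow_le P hg) (lead_spec hK P hf)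
  · rw [map_mul]
    exact mul_lt_one_left (P.2.1 _) (lead_spec hK P hg)

omit [IsAlgClosed k] hK in
theorem coeff_le {f : K[X]} (hf : f ∈ Rng P) (n : ℕ) : P.1 (f.coeff n) ≤ WithZero.exp (n : ℤ) :=
  ((mem_L_single_iff P).mp (hf n)).1

/-- The leading-coefficient map of the section ring. -/
noncomputable def leadLin : Rng P →ₗ[k] k[X] where
  toFun f := ∑ n ∈ (f : K[X]).support, Polynomial.monomial n (lead P n ((f : K[X]).coeff n))
  map_add' f g := by
    ext n
    simp only [Polynomial.finsetSum_coeff, Polynomial.coeff_monomial, Finset.sum_ite_eq', Polynomial.mem_support_iff,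
      Polynomial.coeff_add, AddMemClass.coe_add]
    have := lead_add hK P (coeff_le P f.2 n) (coeff_le P g.2 n)
    have h0 := lead_zero (k := k) P n
    split_ifs <;> simp_all
  map_smul' c f := by
    ext n
    simp only [Polynomial.finsetSum_coeff, Polynomial.coeff_monomial, Finset.sum_ite_eq', Polynomial.mem_support_iff,
      Polynomial.coeff_smul, SetLike.val_smul, RingHom.id_apply, smul_eq_mul]
    have := lead_smul hK P c (coeff_le P f.2 n)
    have h0 := lead_zero (k := k) P n
    split_ifs <;> simp_all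

theorem coeff_leadLin (f : Rng P) (n : ℕ) : (leadLin hK P f).coeff n = lead P n ((f : K[X]).coeff n) := by
  show (∑ m ∈ (f : K[X]).support, Polynomial.monomial m (lead P m ((f : K[X]).coeff m))).coeff n = _
  simp only [Polynomial.finsetSum_coeff, Polynomial.coeff_monomial, Finset.sum_ite_eq', Polynomial.mem_support_iff]
  split_ifs with h
  · rfl
  · rw [Polynomial.notMem_support_iff.mp h, lead_zero]

theorem lead_sum {n : ℕ} {ι : Type*} (s : Finset ι) (F : ι → K) (hF : ∀ i ∈ s, P.1 (F i) ≤ WithZero.exp (n : ℤ)) :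
    lead P n (∑ i ∈ s, F i) = ∑ i ∈ s, lead P n (F i) := by
  classical
  induction s using Finset.induction_on with
  | empty => simp [lead_zero]
  | insert a s ha ih =>
    rw [Finset.sum_insert ha, Finset.sum_insert ha, lead_add hK P (hF a (Finset.mem_insert_self a s)) ?_, ih fun i hi => hF i (Finset.mem_insert_of_mem hi)]
    exact P.1.map_sum_le fun i hi => hF i (Finset.mem_insert_of_mem hi)

/-- The leading-coefficient homomorphism of the section ring. -/
noncomputable def φ : Rng P →ₐ[k] k[X] :=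
  AlgHom.ofLinearMap (leadLin hK P) (by
    ext n
    rw [coeff_leadLin]
    rcases n with _ | n
    · simp only [OneMemClass.coe_one, Polynomial.coeff_one_zero]
      simpa using lead_const (K := K) P (1 : k)
    · simp [Polynomial.coeff_one, lead_zero])
    fun f g => by
      ext n
      rw [coeff_leadLin, Polynomial.coeff_mul, MulMemClass.coe_mul, Polynomial.coeff_mul, lead_sum hK P]
      · refine Finset.sum_congr rfl fun x hx => ?_
        rw [coeff_leadLin, coeff_leadLin, ← lead_mul hK P (coeff_le P f.2 _) (coeff_le P g.2 _), Finset.HasAntidiagonal.mem_antidiagonal.mp hx]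
      · intro x hx
        rw [map_mul, ← Finset.HasAntidiagonal.mem_antidiagonal.mp hx, Nat.cast_add, WithZero.exp_add]
        exact mul_le_mul' (coeff_le P f.2 _) (coeff_le P g.2 _)

theorem coeff_φ (f : Rng P) (n : ℕ) : (φ hK P f).coeff n = lead P n ((f : K[X]).coeff n) := coeff_leadLin hK P f n

theorem ell_zero_smul : ell ((0 : ℤ) • (Finsupp.single P 1 : Divisor k K)) = 1 := by
  rw [zero_smul]; exact FF.ell_zero hK

theorem mem_poleOrders_iff (n : ℕ) :
    n ∈ poleOrders P ↔ ∃ f ∈ L ((n : ℤ) • (Finsupp.single P 1 : Divisor k K)), P.1 f = WithZero.exp (n : ℤ) := by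
  have hD : ((n : ℤ) - 1) • (Finsupp.single P 1 : Divisor k K) = (n : ℤ) • (Finsupp.single P 1 : Divisor k K) - Finsupp.single P 1 := by
    rw [sub_smul, one_smul]
  constructor
  · intro hn
    have hlt : ell ((n : ℤ) • (Finsupp.single P 1 : Divisor k K) - Finsupp.single P 1) < ell ((n : ℤ) • (Finsupp.single P 1 : Divisor k K)) := by
      rw [← hD]
      simp only [poleOrders, Set.mem_setOf_eq] at hn
      omega
    obtain ⟨x, hx0, hx, ho⟩ := FF.exists_mem_L_ord hlt
    refine ⟨x, hx, ?_⟩
    rw [FF.v_eq_exp P hx0, ho]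
    simp
  · rintro ⟨f, hf, hfv⟩
    haveI := FF.finite_L hK ((n : ℤ) • (Finsupp.single P 1 : Divisor k K))
    have hstep := FF.finrank_inf_step hK (W := L ((n : ℤ) • (Finsupp.single P 1 : Divisor k K))) le_rfl P
    have hle : L ((n : ℤ) • (Finsupp.single P 1 : Divisor k K) - Finsupp.single P 1) ≤ L ((n : ℤ) • (Finsupp.single P 1 : Divisor k K)) :=
      FF.L_mono (sub_le_self _ (Finsupp.single_nonneg.2 zero_le_one))
    have hlt : L ((n : ℤ) • (Finsupp.single P 1 : Divisor k K) - Finsupp.single P 1) < L ((n : ℤ) • (Finsupp.single P 1 : Divisor k K)) := by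
      refine lt_of_le_not_ge hle fun hge => ?_
      have := ((mem_L_single_iff P).mp (hD ▸ hge hf : f ∈ L (((n : ℤ) - 1) • (Finsupp.single P 1 : Divisor k K)))).1
      rw [hfv, WithZero.exp_le_exp] at this
      omega
    have h1 := Submodule.finrank_lt_finrank_of_lt hlt
    rw [inf_eq_right.mpr hle] at hstep
    simp only [poleOrders, Set.mem_setOf_eq, ell]
    rw [hD]
    omega

theorem zero_mem_poleOrders : 0 ∈ poleOrders P :=
  (mem_poleOrders_iff hK P 0).mpr ⟨1, (mem_L_single_iff P).mpr ⟨by simp, fun Q _ => by simp⟩, by simp⟩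

theorem add_mem_poleOrders {a b : ℕ} (ha : a ∈ poleOrders P) (hb : b ∈ poleOrders P) : a + b ∈ poleOrders P := by
  obtain ⟨f, hf, hfv⟩ := (mem_poleOrders_iff hK P a).mp ha
  obtain ⟨g, hg, hgv⟩ := (mem_poleOrders_iff hK P b).mp hb
  refine (mem_poleOrders_iff hK P _).mpr ⟨f * g, ?_, by rw [map_mul, hfv, hgv, ← WithZero.exp_add]; push_cast; rfl⟩
  rw [Nat.cast_add, add_smul]
  exact FF.mul_mem_L hf hg

theorem mem_closure_poleOrders {n : ℕ} : n ∈ AddSubmonoid.closure (poleOrders P) ↔ n ∈ poleOrders P := by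
  refine ⟨fun h => ?_, fun h => AddSubmonoid.subset_closure h⟩
  induction h using AddSubmonoid.closure_induction with
  | mem x hx => exact hx
  | zero => exact zero_mem_poleOrders hK P
  | add a b _ _ iha ihb => exact add_mem_poleOrders hK P iha ihb

theorem coeff_φ_eq_zero (f : Rng P) {n : ℕ} (hn : n ∉ poleOrders P) : (φ hK P f).coeff n = 0 := by
  rw [coeff_φ]
  by_contra h
  have hlt := mt (lead_eq_zero_iff hK P (coeff_le P f.2 n)).mpr h
  refine hn ((mem_poleOrders_iff hK P n).mpr ⟨_, f.2 n, ?_⟩)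
  have hle := coeff_le P f.2 n
  have h0 : (f : K[X]).coeff n ≠ 0 := fun h0 => h (by rw [h0, lead_zero])
  rw [FF.v_eq_exp P h0] at hle hlt ⊢
  rw [WithZero.exp_le_exp] at hle hlt
  congr 1
  omega

/-- Every element of the semigroup is the leading exponent of a homogeneous section. -/
theorem exists_lift {n : ℕ} (hn : n ∈ poleOrders P) :
    ∃ x : Rng P, (∃ f : K, (x : K[X]) = Polynomial.C f * Polynomial.X ^ n) ∧ φ hK P x = Polynomial.X ^ n := by
  obtain ⟨f, hf, hfv⟩ := (mem_poleOrders_iff hK P n).mp hn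
  have hl : lead P n f ≠ 0 := fun h => by
    have := (lead_eq_zero_iff hK P hfv.le).mp h
    rw [hfv, WithZero.exp_le_exp] at this
    omega
  refine ⟨⟨Polynomial.C ((lead P n f)⁻¹ • f) * Polynomial.X ^ n, fun m => ?_⟩, ⟨_, rfl⟩, ?_⟩
  · rw [Polynomial.coeff_C_mul_X_pow]
    split_ifs with h
    · subst h; exact Submodule.smul_mem _ _ hf
    · exact zero_mem _
  · ext m
    rw [coeff_φ, Polynomial.coeff_C_mul_X_pow, Polynomial.coeff_X_pow]
    split_ifs with h
    · subst h; rw [lead_smul hK P _ hfv.le, inv_mul_cancel₀ hl]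
    · rw [lead_zero]

omit [IsAlgClosed k] in
theorem L_zero_smul_mem {f : K} (hf : f ∈ L ((0 : ℤ) • (Finsupp.single P 1 : Divisor k K))) :
    ∃ c : k, algebraMap k K c = f := by
  rw [zero_smul] at hf
  exact Submodule.mem_one.mp (FF.L_zero_le hK hf)

omit [IsAlgClosed k] hK in
theorem X_mem : (Polynomial.X : K[X]) ∈ Rng P := fun n => by
  rw [Polynomial.coeff_X]
  split_ifs with h
  · subst h
    exact (mem_L_single_iff P).mpr ⟨by rw [map_one, ← WithZero.exp_zero, WithZero.exp_le_exp]; norm_num, fun Q _ => by simp⟩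
  · exact zero_mem _

/-- The variable, as a section of degree one. -/
noncomputable def T : Rng P := ⟨Polynomial.X, X_mem P⟩

theorem ker_φ : RingHom.ker (φ hK P) = Ideal.span {T P} := by
  refine le_antisymm (fun f hf => ?_) ((Ideal.span_singleton_le_iff_mem _).mpr ?_)
  · have hc : ∀ n, lead P n ((f : K[X]).coeff n) = 0 := fun n => by rw [← coeff_φ hK P f n, show φ hK P f = 0 from hf]; simp
    have h0 : (f : K[X]).coeff 0 = 0 := by
      obtain ⟨c, hc'⟩ := L_zero_smul_mem hK P (f.2 0)
      have := hc 0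
      rw [← hc', lead_const] at this
      rw [← hc', this, map_zero]
    have hg : (f : K[X]).divX ∈ Rng P := fun n => by
      rw [Polynomial.coeff_divX]
      obtain ⟨h1, h2⟩ := (mem_L_single_iff P).mp (f.2 (n + 1))
      refine (mem_L_single_iff P).mpr ⟨?_, h2⟩
      have := (lead_eq_zero_iff hK P h1).mp (hc (n + 1))
      simpa using this
    refine Ideal.mem_span_singleton'.mpr ⟨⟨_, hg⟩, Subtype.ext ?_⟩
    show (f : K[X]).divX * (Polynomial.X : K[X]) = (f : K[X])
    conv_rhs => rw [← Polynomial.divX_mul_X_add (f : K[X]), h0, map_zero, add_zero]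
  · show φ hK P (T P) = 0
    ext n
    rw [coeff_φ]
    show lead P n ((Polynomial.X : K[X]).coeff n) = (0 : k[X]).coeff n
    rw [Polynomial.coeff_X, Polynomial.coeff_zero]
    split_ifs with h
    · subst h
      refine (lead_eq_zero_iff hK P ?_).mpr (by simp)
      rw [map_one, ← WithZero.exp_zero, WithZero.exp_le_exp]; norm_num
    · exact lead_zero P n

/-- The inclusion of the semigroup algebra into polynomials. -/
noncomputable def ι : AddMonoidAlgebra k ↥(AddSubmonoid.closure (poleOrders P)) →ₐ[k] k[X] :=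
  AddMonoidAlgebra.lift k k[X] ↥(AddSubmonoid.closure (poleOrders P))
    { toFun := fun s => Polynomial.X ^ ((s.toAdd : ↥(AddSubmonoid.closure (poleOrders P))) : ℕ)
      map_one' := by simp
      map_mul' := fun a b => by simp [pow_add] }

omit [IsAlgClosed k] hK in
theorem ι_single (s : ↥(AddSubmonoid.closure (poleOrders P))) (c : k) :
    ι P (AddMonoidAlgebra.single s c) = Polynomial.C c * Polynomial.X ^ (s : ℕ) := by
  rw [ι, AddMonoidAlgebra.lift_single, Algebra.smul_def]; rfl

omit [IsAlgClosed k] hK in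
theorem ι_injective : Function.Injective (ι P) := by
  have key : ∀ (q : AddMonoidAlgebra k ↥(AddSubmonoid.closure (poleOrders P))) (s : ↥(AddSubmonoid.closure (poleOrders P))), (ι P q).coeff (s : ℕ) = q.coeff s := by
    intro q s
    induction q using AddMonoidAlgebra.induction_linear with
    | zero => simp
    | add a b ha hb => rw [map_add, Polynomial.coeff_add, ha, hb, AddMonoidAlgebra.coeff_add, Finsupp.add_apply]
    | single m c =>
      rw [ι_single, Polynomial.coeff_C_mul_X_pow, AddMonoidAlgebra.coeff_single, Finsupp.single_apply]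
      by_cases h : m = s
      · subst h; simp
      · rw [if_neg h, if_neg fun h' => h (Subtype.ext h'.symm)]
  intro a b h
  ext s
  rw [← key a s, ← key b s, h]

theorem range_φ : (φ hK P).range = (ι P).range := by
  refine le_antisymm ?_ ?_
  · rintro _ ⟨f, rfl⟩
    show φ hK P f ∈ (ι P).range
    rw [(φ hK P f).as_sum_support_C_mul_X_pow]
    refine sum_mem fun n hn => ?_
    have hnH : n ∈ poleOrders P := by
      by_contra h
      exact Polynomial.mem_support_iff.mp hn (coeff_φ_eq_zero hK P f h)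
    exact ⟨AddMonoidAlgebra.single ⟨n, AddSubmonoid.subset_closure hnH⟩ ((φ hK P f).coeff n), ι_single P _ _⟩
  · rintro _ ⟨q, rfl⟩
    show ι P q ∈ (φ hK P).range
    induction q using AddMonoidAlgebra.induction_linear with
    | zero => rw [map_zero]; exact zero_mem _
    | add a b ha hb => rw [map_add]; exact add_mem ha hb
    | single m c =>
      obtain ⟨x, -, hx⟩ := exists_lift hK P ((mem_closure_poleOrders hK P).mp m.2)
      exact ⟨c • x, by show φ hK P (c • x) = _; rw [map_smul, hx, ι_single, Polynomial.smul_eq_C_mul]⟩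

theorem one_not_mem_poleOrders (hg : 1 ≤ genus k K) : 1 ∉ poleOrders P := by
  intro h
  simp only [poleOrders, Set.mem_setOf_eq, Nat.cast_one, sub_self] at h
  rw [ell_zero_smul hK P, one_smul] at h
  have := FF.ell_le_deg hK hg (E := Finsupp.single P 1) (by rw [FF.deg_single_ac hK])
  rw [FF.deg_single_ac hK] at this
  omega

theorem L_one_mem (hg : 1 ≤ genus k K) {f : K} (hf : f ∈ L (((1 : ℕ) : ℤ) • (Finsupp.single P 1 : Divisor k K))) :
    ∃ c : k, algebraMap k K c = f := by
  obtain ⟨h1, h2⟩ := (mem_L_single_iff P).mp hf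
  refine L_zero_smul_mem hK P ((mem_L_single_iff P).mpr ⟨?_, h2⟩)
  rcases eq_or_ne f 0 with rfl | h0
  · simp
  rw [FF.v_eq_exp P h0] at h1 ⊢
  rw [WithZero.exp_le_exp] at h1 ⊢
  by_contra hlt
  refine one_not_mem_poleOrders hK P hg ((mem_poleOrders_iff hK P 1).mpr ⟨f, hf, ?_⟩)
  rw [FF.v_eq_exp P h0]
  congr 1
  omega

theorem exists_pos_mem_poleOrders (hg : 1 ≤ genus k K) : ∃ m, 0 < m ∧ m ∈ poleOrders P := by
  refine ⟨2 * genus k K + 1, by omega, ?_⟩
  simp only [poleOrders, Set.mem_setOf_eq, smul_single]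
  have h1 := FF.ell_of_deg_large hK (D := Finsupp.single P (((2 * genus k K + 1 : ℕ) : ℤ))) (by rw [FF.deg_single_ac hK]; push_cast; omega)
  have h2 := FF.ell_of_deg_large hK (D := Finsupp.single P ((((2 * genus k K + 1 : ℕ) : ℤ)) - 1)) (by rw [FF.deg_single_ac hK]; push_cast; omega)
  rw [FF.deg_single_ac hK] at h1 h2
  push_cast at h1 h2 ⊢
  omega

theorem minGens_finite (hg : 1 ≤ genus k K) : (minGens (poleOrders P)).Finite := by
  obtain ⟨m, hm0, hm⟩ := exists_pos_mem_poleOrders hK P hg
  have hmul : ∀ j : ℕ, (j + 1) * m ∈ poleOrders P := by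
    intro j
    induction j with
    | zero => simpa using hm
    | succ j ih => rw [add_mul, one_mul]; exact add_mem_poleOrders hK P ih hm
  refine Set.Finite.subset ((Set.finite_singleton m).union (Set.Finite.of_finite_image
    (f := fun h => h % m) (s := minGens (poleOrders P) \ {m}) ?_ ?_)) (fun h hh => (em (h = m)).imp id fun e => ⟨hh, e⟩)
  · exact (Set.finite_Iio m).subset (by rintro _ ⟨h, -, rfl⟩; exact Nat.mod_lt _ hm0)
  · have key : ∀ a b, a ∈ minGens (poleOrders P) → b ∈ minGens (poleOrders P) → a % m = b % m → a < b → False := by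
      intro a b ha hb hab hlt
      obtain ⟨j, hj⟩ : m ∣ b - a := (Nat.modEq_iff_dvd' hlt.le).mp hab
      obtain ⟨j, rfl⟩ : ∃ i, j = i + 1 := ⟨j - 1, by
        rcases Nat.eq_zero_or_pos j with rfl | h
        · simp at hj; omega
        · omega⟩
      refine hb.2.2 a ha.1 ((j + 1) * m) (hmul j) ha.2.1 (Nat.mul_ne_zero (by omega) (by omega)) ?_
      rw [mul_comm (j + 1), ← hj]; omega
    intro a ha b hb hab
    rcases lt_trichotomy a b with h | h | h
    · exact (key a b ha.1 hb.1 hab h).elim
    · exact h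
    · exact (key b a hb.1 ha.1 hab.symm h).elim

end AC

end Groth.Agent.GrSectP
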