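import Mathlib
import Groth.Prelude.Def_W4c6gradedringsgwSect

/-! Symmetric numerical semigroups and the maximal elements of their Apéry sets. -/

set_option autoImplicit false

namespace Groth.Agent.GrSectP

/-- The Apéry set. -/
def Ap (H : Set ℕ) (e : ℕ) : Set ℕ := {w | w ∈ H ∧ ∀ h ∈ H, h + e ≠ w}

/-- The maximal elements of the Apéry set for the order of the semigroup. -/
def ApMax (H : Set ℕ) (e : ℕ) : Set ℕ := {w | w ∈ Ap H e ∧ ∀ h ∈ H, 0 < h → w + h ∉ Ap H e}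

variable {H : Set ℕ} {e c : ℕ} (h0 : 0 ∈ H) (hadd : ∀ {a b : ℕ}, a ∈ H → b ∈ H → a + b ∈ H)
  (he : e ∈ H) (he0 : 0 < e) (hc : ∀ n, c ≤ n → n ∈ H)

include hc in
theorem ap_lt {w : ℕ} (hw : w ∈ Ap H e) : w < c + e := by
  by_contra h
  exact hw.2 (w - e) (hc _ (by omega)) (by omega)

include h0 hadd hc in
theorem exists_apMax_above {w : ℕ} (hw : w ∈ Ap H e) : ∃ s ∈ ApMax H e, ∃ h ∈ H, w + h = s := by
  induction hn : c + e - w using Nat.strong_induction_on generalizing w with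
  | h n ih =>
    by_cases hmax : w ∈ ApMax H e
    · exact ⟨w, hmax, 0, h0, by simp⟩
    · obtain ⟨a, ha, ha0, hwa⟩ : ∃ a ∈ H, 0 < a ∧ w + a ∈ Ap H e := by
        by_contra hcon
        exact hmax ⟨hw, fun a ha ha0 hwa => hcon ⟨a, ha, ha0, hwa⟩⟩
      have := ap_lt hc hwa
      obtain ⟨s, hs, b, hb, hab⟩ := ih (c + e - (w + a)) (by omega) hwa rfl
      exact ⟨s, hs, a + b, hadd ha hb, by omega⟩

include h0 he0 in
theorem zero_mem_ap : 0 ∈ Ap H e := ⟨h0, fun h _ hh => by omega⟩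

include h0 hadd he he0 hc in
theorem isSymmetric_iff_apMax :
    W4c6gradedringsgw.IsSymmetric H ↔ ∃! w, w ∈ ApMax H e := by
  constructor
  · rintro ⟨d, hd⟩
    have hd0 : ¬ ∃ h ∈ H, (h : ℤ) = d := fun hh => by
      have := (hd 0).mp ⟨0, h0, rfl⟩
      rw [sub_zero] at this
      exact this hh
    obtain ⟨w0, hw0, hw0d⟩ : ∃ h ∈ H, (h : ℤ) = d + e :=
      (hd _).mpr fun ⟨h, _, hh⟩ => by omega
    have hap : w0 ∈ Ap H e := ⟨hw0, fun h hh hhe => hd0 ⟨h, hh, by omega⟩⟩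
    have htop : ∀ w ∈ Ap H e, ∃ h ∈ H, w + h = w0 := fun w hw => by
      by_contra hcon
      obtain ⟨h, hh, hhe⟩ := (hd ((w : ℤ) - e)).mpr fun ⟨h, hh, hhe⟩ => hcon ⟨h, hh, by omega⟩
      exact hw.2 h hh (by omega)
    have hmax : ∀ s ∈ ApMax H e, s = w0 := fun s hs => by
      obtain ⟨h, hh, hsh⟩ := htop s hs.1
      rcases Nat.eq_zero_or_pos h with rfl | hpos
      · omega
      · exact absurd (hsh ▸ hap) (hs.2 h hh hpos)
    obtain ⟨s, hs, -⟩ := exists_apMax_above h0 hadd hc hap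
    exact ⟨w0, hmax s hs ▸ hs, hmax⟩
  · rintro ⟨w0, hw0, huniq⟩
    refine ⟨(w0 : ℤ) - e, fun n => ⟨fun ⟨a, ha, han⟩ ⟨b, hb, hbn⟩ => hw0.1.2 (a + b) (hadd ha hb) (by omega), fun hn => ?_⟩⟩
    by_contra hnH
    have hex : ∃ j : ℕ, ∃ h ∈ H, (h : ℤ) = n + j * e := by
      refine ⟨(n.natAbs + c), (n + (n.natAbs + c : ℕ) * e).toNat, hc _ ?_, ?_⟩
      all_goals
        have h1 : ((n.natAbs + c : ℕ) : ℤ) * 1 ≤ ((n.natAbs + c : ℕ) : ℤ) * (e : ℤ) :=
          mul_le_mul_of_nonneg_left (by omega) (by omega)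
        omega
    classical
    obtain ⟨j, hj⟩ : ∃ j, j = Nat.find hex := ⟨_, rfl⟩
    obtain ⟨w, hwH, hw⟩ := hj ▸ Nat.find_spec hex
    obtain ⟨i, hi⟩ : ∃ i, j = i + 1 := Nat.exists_eq_succ_of_ne_zero fun h => hnH ⟨w, hwH, by subst h; simpa using hw⟩
    have hap : w ∈ Ap H e := ⟨hwH, fun h hh hhe => by
      refine Nat.find_min hex (m := i) (by omega) ⟨h, hh, ?_⟩
      rw [hi] at hw; push_cast at hw
      linarith [show (h : ℤ) + e = w by exact_mod_cast hhe]⟩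
    obtain ⟨s, hs, b, hb, hbs⟩ := exists_apMax_above h0 hadd hc hap
    obtain rfl := huniq s hs
    have hmul : ∀ i : ℕ, i * e ∈ H := fun i => by
      induction i with
      | zero => simpa using h0
      | succ i ih => rw [Nat.succ_mul]; exact hadd ih he
    refine hn ⟨b + i * e, hadd hb (hmul i), ?_⟩
    rw [hi] at hw; push_cast at hw ⊢
    linarith [show (w : ℤ) + b = s by exact_mod_cast hbs]

end Groth.Agent.GrSectP
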