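import Mathlib
import Groth.Agent.GrSectP.Basic
import Groth.Agent.GrSectP.Symm
import Groth.Agent.GrCoreLib.VeroneseGor
import Groth.Agent.GorLib.Artinian
import Groth.Agent.GorLib.Quotient
import Groth.Agent.GorLib.Transport

/-! The section ring of a point divisor is Gorenstein iff its semigroup is symmetric. -/

set_option autoImplicit false
set_option linter.style.haveILetI false
set_option linter.unusedSectionVars false
universe u

open FunFld W4c6gradedringsgw Polynomial DirectSum

namespace Groth.Agent.GrSectP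

variable {k : Type u} {K : Type u} [Field k] [Field K] [Algebra k K] [IsAlgClosed k]
  (hK : IsFunctionField k K) (P : Place k K)

omit [IsAlgClosed k] in
/-- The homogeneous pieces of the section ring. -/
def pieces (n : ℤ) : AddSubgroup (Rng P) where
  carrier := {f | ∀ m : ℕ, (m : ℤ) ≠ n → (f : K[X]).coeff m = 0}
  zero_mem' := fun _ _ => by simp
  add_mem' := fun hf hg m hm => by simp [hf m hm, hg m hm]
  neg_mem' := fun hf m hm => by simp [hf m hm]

omit [IsAlgClosed k] in
theorem mem_pieces {n : ℤ} {f : Rng P} :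
    f ∈ pieces P n ↔ ∀ m : ℕ, (m : ℤ) ≠ n → (f : K[X]).coeff m = 0 := Iff.rfl

omit [IsAlgClosed k] in
/-- The homogeneous component of degree `n`. -/
noncomputable def pr (n : ℤ) : Rng P →+ Rng P where
  toFun f := ⟨if 0 ≤ n then Polynomial.monomial n.toNat ((f : K[X]).coeff n.toNat) else 0, fun m => by
    split_ifs
    · rw [Polynomial.coeff_monomial]
      split_ifs with h
      · subst h; exact f.2 _
      · exact zero_mem _
    · simp⟩
  map_zero' := by ext1; simp
  map_add' f g := by ext1; split_ifs <;> simp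

omit [IsAlgClosed k] in
instance : SetLike.GradedMonoid (pieces P) where
  one_mem := fun m hm => by
    rw [OneMemClass.coe_one, Polynomial.coeff_one, if_neg]; exact_mod_cast hm
  mul_mem := fun i j f g hf hg m hm => by
    rw [MulMemClass.coe_mul, Polynomial.coeff_mul]
    refine Finset.sum_eq_zero fun x hx => ?_
    have hx' := Finset.HasAntidiagonal.mem_antidiagonal.mp hx
    by_cases h : (x.1 : ℤ) = i
    · rw [hg x.2 (by omega), mul_zero]
    · rw [hf x.1 h, zero_mul]

omit [IsAlgClosed k] in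
theorem pieces_isInternal : DirectSum.IsInternal (pieces P) := by
  refine GrInjLib.isInternal_of_proj (pieces P) (pr P) (fun g f hf => Subtype.ext ?_) (fun g h hne f hf => Subtype.ext ?_) fun f => ?_
  · show (if 0 ≤ g then Polynomial.monomial g.toNat ((f : K[X]).coeff g.toNat) else 0) = (f : K[X])
    ext m
    by_cases hm : (m : ℤ) = g
    · rw [if_pos (by omega), Polynomial.coeff_monomial, if_pos (by omega)]
      congr 1; omega
    · rw [hf m hm]
      split_ifs
      · rw [Polynomial.coeff_monomial, if_neg (by omega)]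
      · simp
  · show (if 0 ≤ g then Polynomial.monomial g.toNat ((f : K[X]).coeff g.toNat) else 0) = ((0 : Rng P) : K[X])
    split_ifs with h0
    · rw [hf g.toNat (by omega)]; simp
    · simp
  · have hf : f = ∑ m ∈ (f : K[X]).support, pr P (m : ℤ) f := Subtype.ext <| by
      rw [AddSubmonoidClass.coe_finsetSum]
      conv_lhs => rw [(f : K[X]).as_sum_support]
      refine Finset.sum_congr rfl fun m _ => ?_
      simp [pr]
    rw [hf]
    refine sum_mem fun m _ => AddSubgroup.mem_iSup_of_mem (m : ℤ) fun m' hm' => ?_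
    show (if 0 ≤ (m : ℤ) then Polynomial.monomial (m : ℤ).toNat ((f : K[X]).coeff (m : ℤ).toNat) else (0 : K[X])).coeff m' = 0
    rw [if_pos (by omega), Int.toNat_natCast, Polynomial.coeff_monomial, if_neg (by omega)]

omit [IsAlgClosed k] in
noncomputable instance gradedRing : GradedRing (pieces P) :=
  { (pieces_isInternal P).chooseDecomposition, (inferInstance : SetLike.GradedMonoid (pieces P)) with }

omit [IsAlgClosed k] in
theorem pieces_neg (n : ℤ) (hn : n < 0) : pieces P n = ⊥ :=
  (AddSubgroup.eq_bot_iff_forall _).mpr fun f hf => Subtype.ext <| Polynomial.ext fun m => by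
    rw [hf m (by omega)]; simp

include hK in
theorem exists_const_of_deg0 {f : Rng P} (hf : f ∈ pieces P 0) : ∃ c : k, algebraMap k (Rng P) c = f := by
  obtain ⟨c, hc⟩ := L_zero_smul_mem hK P (f.2 0)
  refine ⟨c, Subtype.ext <| Polynomial.ext fun m => ?_⟩
  show (algebraMap k K[X] c).coeff m = _
  rw [Polynomial.algebraMap_apply, Polynomial.coeff_C]
  split_ifs with h
  · subst h; exact hc
  · exact (hf m (by omega)).symm

include hK in
theorem isField_deg0 : IsField (GrLC.deg0 (pieces P)) where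
  exists_pair_ne := ⟨0, 1, fun h => by
    have h1 : (0 : Rng P) = 1 := congrArg Subtype.val h
    exact zero_ne_one h1⟩
  mul_comm := mul_comm
  mul_inv_cancel := by
    intro a ha
    obtain ⟨c, hc⟩ := exists_const_of_deg0 hK P a.2
    have hc0 : c ≠ 0 := fun h => ha (Subtype.ext (by rw [← hc, h, map_zero]; rfl))
    refine ⟨⟨algebraMap k (Rng P) c⁻¹, fun m hm => ?_⟩, Subtype.ext ?_⟩
    · show (algebraMap k K[X] c⁻¹).coeff m = 0
      rw [Polynomial.algebraMap_apply, Polynomial.coeff_C, if_neg (by omega)]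
    · show (a : Rng P) * algebraMap k (Rng P) c⁻¹ = 1
      rw [← hc, ← map_mul, mul_inv_cancel₀ hc0, map_one]

omit [IsAlgClosed k] in
/-- The irrelevant ideal. -/
noncomputable def mI : Ideal (Rng P) :=
  RingHom.ker (Polynomial.constantCoeff.comp (Rng P).val.toRingHom)

omit [IsAlgClosed k] in
theorem mem_mI {f : Rng P} : f ∈ mI P ↔ (f : K[X]).coeff 0 = 0 := Iff.rfl

omit [IsAlgClosed k] in
theorem mI_ne_top : mI P ≠ ⊤ := fun h => by
  have h1 := (mem_mI P).mp (h ▸ Submodule.mem_top : (1 : Rng P) ∈ mI P)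
  simp at h1

include hK in
theorem irr_eq : GrFieldLib.irr (pieces P) = mI P := by
  refine (GrFieldLib.irr_isMaximal (pieces P) (pieces_neg P) (isField_deg0 hK P)).eq_of_le (mI_ne_top P) ?_
  refine Ideal.span_le.mpr fun y hy => ?_
  obtain ⟨n, hn, hyn⟩ := Set.mem_iUnion₂.1 hy
  exact hyn 0 (by simp only [Set.mem_Ioi] at hn; omega)

include hK in
theorem mI_isMaximal : (mI P).IsMaximal :=
  irr_eq hK P ▸ GrFieldLib.irr_isMaximal (pieces P) (pieces_neg P) (isField_deg0 hK P)

include hK in
/-- The section ring is a finitely generated algebra. -/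
theorem finiteType (hg : 1 ≤ genus k K) : Algebra.FiniteType k (Rng P) := by
  classical
  have hfin := minGens_finite hK P hg
  set G : Set (Rng P) := insert (T P) ((fun n => if h : n ∈ poleOrders P then (exists_lift hK P h).choose else 0) '' minGens (poleOrders P)) with hG
  have hGfin : G.Finite := (hfin.image _).insert _
  have hTG : T P ∈ Algebra.adjoin k G := Algebra.subset_adjoin (Set.mem_insert _ _)
  have hpow : ∀ n ∈ poleOrders P, ∃ y ∈ Algebra.adjoin k G, (y : K[X]).natDegree ≤ n ∧ φ hK P y = Polynomial.X ^ n := by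
    intro n
    induction n using Nat.strong_induction_on with
    | h n ih =>
      intro hn
      rcases eq_or_ne n 0 with rfl | hn0
      · exact ⟨1, one_mem _, by simp, by simp⟩
      by_cases hmin : n ∈ minGens (poleOrders P)
      · refine ⟨(exists_lift hK P hn).choose, Algebra.subset_adjoin (Set.mem_insert_of_mem _ ⟨n, hmin, by simp [hn]⟩), ?_, (exists_lift hK P hn).choose_spec.2⟩
        obtain ⟨f, hf⟩ := (exists_lift hK P hn).choose_spec.1
        rw [hf]; exact Polynomial.natDegree_C_mul_X_pow_le f n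
      · obtain ⟨a, ha, b, hb, ha0, hb0, hab⟩ : ∃ a ∈ poleOrders P, ∃ b ∈ poleOrders P, a ≠ 0 ∧ b ≠ 0 ∧ a + b = n := by
          by_contra hcon
          exact hmin ⟨hn, hn0, fun a ha b hb ha0 hb0 e => hcon ⟨a, ha, b, hb, ha0, hb0, e⟩⟩
        obtain ⟨y, hy, hyd, hya⟩ := ih a (by omega) ha
        obtain ⟨z, hz, hzd, hzb⟩ := ih b (by omega) hb
        refine ⟨y * z, mul_mem hy hz, ?_, by rw [map_mul, hya, hzb, ← pow_add, hab]⟩
        rw [MulMemClass.coe_mul]
        exact Polynomial.natDegree_mul_le.trans (by omega)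
  have key : ∀ d : ℕ, ∀ f : Rng P, (f : K[X]).natDegree < d → f ∈ Algebra.adjoin k G := by
    intro d
    induction d with
    | zero => intro f hf; omega
    | succ d ih =>
      intro f hf
      have hy : ∀ n ∈ (φ hK P f).support, ∃ y ∈ Algebra.adjoin k G, (y : K[X]).natDegree ≤ n ∧ φ hK P y = Polynomial.X ^ n := fun n hn =>
        hpow n (by
          by_contra h
          exact Polynomial.mem_support_iff.mp hn (coeff_φ_eq_zero hK P f h))
      choose y hyG hyd hyφ using hy
      set w : Rng P := ∑ n ∈ (φ hK P f).support.attach, (φ hK P f).coeff n.1 • y n.1 n.2 with hw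
      have hwG : w ∈ Algebra.adjoin k G := sum_mem fun n _ => Subalgebra.smul_mem _ (hyG _ _) _
      have hwd : (w : K[X]).natDegree < d + 1 := by
        rw [hw, AddSubmonoidClass.coe_finsetSum]
        refine Nat.lt_succ_of_le (Polynomial.natDegree_sum_le_of_forall_le _ _ fun n _ => ?_)
        rw [SetLike.val_smul]
        refine (Polynomial.natDegree_smul_le _ _).trans ((hyd _ _).trans ?_)
        have hne : (f : K[X]).coeff n.1 ≠ 0 := fun h0 => Polynomial.mem_support_iff.mp n.2 (by rw [coeff_φ, h0, lead_zero])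
        have := Polynomial.le_natDegree_of_ne_zero hne
        omega
      have hwf : φ hK P (f - w) = 0 := by
        rw [map_sub, sub_eq_zero, hw, map_sum]
        conv_lhs => rw [(φ hK P f).as_sum_support_C_mul_X_pow, ← Finset.sum_attach]
        exact Finset.sum_congr rfl fun n _ => by rw [map_smul, hyφ, Polynomial.smul_eq_C_mul]
      rw [← RingHom.mem_ker, ker_φ, Ideal.mem_span_singleton'] at hwf
      obtain ⟨g, hgf⟩ := hwf
      suffices hgG : g ∈ Algebra.adjoin k G by
        have h2 := add_mem (mul_mem hgG hTG) hwG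
        rwa [hgf, sub_add_cancel] at h2
      rcases eq_or_ne g 0 with rfl | hg0
      · exact zero_mem _
      refine ih g ?_
      have h1 : (g : K[X]) * Polynomial.X = (f : K[X]) - (w : K[X]) := by
        rw [← AddSubgroupClass.coe_sub, ← hgf]; rfl
      have h2 := Polynomial.natDegree_mul_X (p := (g : K[X])) (fun h => hg0 (Subtype.ext h))
      rw [h1] at h2
      have := Polynomial.natDegree_sub_le (f : K[X]) (w : K[X])
      omega
  refine ⟨⟨hGfin.toFinset, eq_top_iff.mpr fun f _ => ?_⟩⟩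
  rw [Set.Finite.coe_toFinset]
  exact key _ f (Nat.lt_succ_self _)

/-- The quotient by the regular sequence `T`, `x`. -/
noncomputable def J (x : Rng P) : Ideal (Rng P) := Ideal.span {T P} ⊔ Ideal.span {x}

section Quot

variable {e c : ℕ} (he0 : 0 < e) (hc : ∀ n, c ≤ n → n ∈ poleOrders P) {x : Rng P}
  (hx : φ hK P x = Polynomial.X ^ e)

include hK in
theorem coeff_φ_zero (f : Rng P) : f ∈ mI P ↔ (φ hK P f).coeff 0 = 0 := by
  rw [mem_mI, coeff_φ]
  constructor
  · intro h; rw [h, lead_zero]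
  · intro h
    obtain ⟨a, ha⟩ := L_zero_smul_mem hK P (f.2 0)
    rw [← ha, lead_const] at h
    rw [← ha, h, map_zero]

include hK in
theorem exists_preimage {q : k[X]} (hq : ∀ n, n ∉ poleOrders P → q.coeff n = 0) : ∃ f : Rng P, φ hK P f = q := by
  show q ∈ (φ hK P).range
  rw [q.as_sum_support_C_mul_X_pow]
  refine sum_mem fun n hn => ?_
  have hnH : n ∈ poleOrders P := by
    by_contra h
    exact Polynomial.mem_support_iff.mp hn (hq n h)
  obtain ⟨y, -, hy⟩ := exists_lift hK P hnH
  exact ⟨q.coeff n • y, by show φ hK P (q.coeff n • y) = _; rw [map_smul, hy, Polynomial.smul_eq_C_mul]⟩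

include hK he0 hx in
theorem mem_J_iff (f : Rng P) :
    f ∈ J P x ↔ ∀ w ∈ Ap (poleOrders P) e, (φ hK P f).coeff w = 0 := by
  constructor
  · intro hf w hw
    obtain ⟨a, ha, b, hb, rfl⟩ := Submodule.mem_sup.mp hf
    obtain ⟨a', rfl⟩ := Ideal.mem_span_singleton'.mp ha
    obtain ⟨b', rfl⟩ := Ideal.mem_span_singleton'.mp hb
    have hT : φ hK P (T P) = 0 := by rw [← RingHom.mem_ker, ker_φ]; exact Ideal.mem_span_singleton_self _
    rw [map_add, map_mul, map_mul, hT, mul_zero, zero_add, hx, Polynomial.coeff_mul_X_pow']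
    split_ifs with hle
    · refine coeff_φ_eq_zero hK P b' fun hmem => hw.2 _ hmem ?_
      omega
    · rfl
  · intro hf
    have hdiv : Polynomial.X ^ e ∣ φ hK P f := Polynomial.X_pow_dvd_iff.mpr fun n hn => by
      by_cases hnH : n ∈ poleOrders P
      · exact hf n ⟨hnH, fun h _ hh => by omega⟩
      · exact coeff_φ_eq_zero hK P f hnH
    obtain ⟨q, hq⟩ := hdiv
    have hqH : ∀ n, n ∉ poleOrders P → q.coeff n = 0 := fun n hn => by
      have h1 : (φ hK P f).coeff (n + e) = q.coeff n := by rw [hq, mul_comm, Polynomial.coeff_mul_X_pow]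
      rw [← h1]
      by_cases hne : n + e ∈ poleOrders P
      · exact hf _ ⟨hne, fun h hh hhe => hn ((show h = n by omega) ▸ hh)⟩
      · exact coeff_φ_eq_zero hK P f hne
    obtain ⟨g, hg⟩ := exists_preimage hK P hqH
    have h2 : f - g * x ∈ Ideal.span {T P} := by
      rw [← ker_φ hK P, RingHom.mem_ker, map_sub, map_mul, hg, hx, hq, mul_comm, sub_self]
    rw [← sub_add_cancel f (g * x)]
    exact Submodule.add_mem_sup h2 (Ideal.mul_mem_left _ _ (Ideal.mem_span_singleton_self x))

include hK he0 hx in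
theorem J_le : J P x ≤ mI P := fun f hf => (coeff_φ_zero hK P f).mpr <|
  (mem_J_iff hK P he0 hx f).mp hf 0 (zero_mem_ap (zero_mem_poleOrders hK P) he0)

include hK he0 hc hx in
theorem pow_mem_J {f : Rng P} (hf : f ∈ mI P) : f ^ (c + e) ∈ J P x := by
  rw [mem_J_iff hK P he0 hx]
  intro w hw
  rw [map_pow]
  obtain ⟨q, hq⟩ : Polynomial.X ∣ φ hK P f := Polynomial.X_dvd_iff.mpr ((coeff_φ_zero hK P f).mp hf)
  rw [hq, mul_pow, mul_comm, Polynomial.coeff_mul_X_pow', if_neg (by have := ap_lt hc hw; omega)]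

include hK he0 hc hx in
theorem isArtinian_quot : IsArtinianRing (Rng P ⧸ J P x) := by
  let F : Rng P →ₗ[k] Fin (c + e) → k :=
    LinearMap.pi fun n => (Classical.epsilon fun l : Rng P →ₗ[k] k =>
      (n.1 ∈ Ap (poleOrders P) e → ∀ f, l f = (φ hK P f).coeff n.1) ∧ (n.1 ∉ Ap (poleOrders P) e → l = 0))
  have hF : ∀ f, F f = 0 ↔ f ∈ J P x := by
    intro f
    rw [mem_J_iff hK P he0 hx, funext_iff]
    have spec : ∀ n : Fin (c + e), _ := fun n => Classical.epsilon_spec
      (p := fun l : Rng P →ₗ[k] k =>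
      (n.1 ∈ Ap (poleOrders P) e → ∀ f, l f = (φ hK P f).coeff n.1) ∧ (n.1 ∉ Ap (poleOrders P) e → l = 0))
      (by
        by_cases h : n.1 ∈ Ap (poleOrders P) e
        · exact ⟨(Polynomial.lcoeff k n.1).comp (φ hK P).toLinearMap, fun _ f => rfl, fun h' => absurd h h'⟩
        · exact ⟨0, fun h' => absurd h' h, fun _ => rfl⟩)
    constructor
    · intro h w hw
      rw [← (spec ⟨w, ap_lt hc hw⟩).1 hw f]
      exact h ⟨w, ap_lt hc hw⟩
    · intro h n
      show (Classical.epsilon _ : Rng P →ₗ[k] k) f = 0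
      by_cases hn : n.1 ∈ Ap (poleOrders P) e
      · rw [(spec n).1 hn f]; exact h _ hn
      · rw [(spec n).2 hn]; rfl
  have hk : LinearMap.ker F = (J P x).restrictScalars k := by
    ext f; exact hF f
  haveI : Module.Finite k (Rng P ⧸ (J P x).restrictScalars k) :=
    Module.Finite.equiv ((Submodule.quotEquivOfEq _ _ hk.symm).trans F.quotKerEquivRange).symm
  haveI : Module.Finite k (Rng P ⧸ J P x) :=
    Module.Finite.equiv (Submodule.Quotient.restrictScalarsEquiv k (J P x))
  exact IsArtinianRing.of_finite k _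

include hK he0 hc hx in
theorem isLocal_quot : IsLocalRing (Rng P ⧸ J P x) := by
  haveI := mI_isMaximal hK P
  haveI : Nontrivial (Rng P ⧸ J P x) :=
    Ideal.Quotient.nontrivial_iff.mpr fun h => mI_ne_top P (top_le_iff.mp (h ▸ J_le hK P he0 hx))
  refine IsLocalRing.of_unique_max_ideal ⟨(mI P).map (Ideal.Quotient.mk _),
    Ideal.IsMaximal.map_of_surjective_of_ker_le Ideal.Quotient.mk_surjective (by rw [Ideal.mk_ker]; exact J_le hK P he0 hx),
    fun M hM => ?_⟩
  have hle : mI P ≤ M.comap (Ideal.Quotient.mk _) := fun f hf => hM.isPrime.mem_of_pow_mem (c + e) (by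
    rw [← map_pow, Ideal.Quotient.eq_zero_iff_mem.mpr (pow_mem_J hK P he0 hc hx hf)]
    exact zero_mem _)
  rw [(mI_isMaximal hK P).eq_of_le (Ideal.comap_ne_top _ hM.ne_top) hle,
    Ideal.map_comap_of_surjective _ Ideal.Quotient.mk_surjective]

include hK he0 hc hx in
theorem simpleSocle_iff [IsLocalRing (Rng P ⧸ J P x)] :
    GorLib.SimpleSocle (Rng P ⧸ J P x) ↔ ∃! w, w ∈ ApMax (poleOrders P) e := by
  classical
  set mk := Ideal.Quotient.mk (J P x)
  haveI := mI_isMaximal hK P
  have hmax : IsLocalRing.maximalIdeal (Rng P ⧸ J P x) = (mI P).map mk :=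
    (IsLocalRing.eq_maximalIdeal (Ideal.IsMaximal.map_of_surjective_of_ker_le Ideal.Quotient.mk_surjective
      (by rw [Ideal.mk_ker]; exact J_le hK P he0 hx))).symm
  have hH0 := zero_mem_poleOrders hK P
  -- socle elements in terms of coefficients
  have hsocle : ∀ f : Rng P, (∀ r ∈ IsLocalRing.maximalIdeal (Rng P ⧸ J P x), r * mk f = 0) ↔
      ∀ w ∈ Ap (poleOrders P) e, w ∉ ApMax (poleOrders P) e → (φ hK P f).coeff w = 0 := by
    intro f
    constructor
    · intro hf w hw hwm
      obtain ⟨h, hh, hh0, hwh⟩ : ∃ h ∈ poleOrders P, 0 < h ∧ w + h ∈ Ap (poleOrders P) e := by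
        by_contra hcon
        exact hwm ⟨hw, fun h hh h0 hwh => hcon ⟨h, hh, h0, hwh⟩⟩
      obtain ⟨y, -, hy⟩ := exists_lift hK P hh
      have hym : y ∈ mI P := (coeff_φ_zero hK P y).mpr (by rw [hy, Polynomial.coeff_X_pow, if_neg (by omega)])
      have h1 := hf (mk y) (hmax ▸ Ideal.mem_map_of_mem _ hym)
      rw [← map_mul, Ideal.Quotient.eq_zero_iff_mem, mem_J_iff hK P he0 hx] at h1
      have h2 := h1 _ hwh
      rwa [map_mul, hy, mul_comm, Polynomial.coeff_mul_X_pow] at h2
    · intro hf r hr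
      rw [hmax, Ideal.mem_map_iff_of_surjective _ Ideal.Quotient.mk_surjective] at hr
      obtain ⟨a, ha, rfl⟩ := hr
      rw [← map_mul, Ideal.Quotient.eq_zero_iff_mem, mem_J_iff hK P he0 hx]
      intro w hw
      rw [map_mul, Polynomial.coeff_mul]
      refine Finset.sum_eq_zero fun p hp => ?_
      have hp' := Finset.HasAntidiagonal.mem_antidiagonal.mp hp
      by_cases h1 : p.1 ∈ poleOrders P
      swap; · rw [coeff_φ_eq_zero hK P a h1, zero_mul]
      rcases Nat.eq_zero_or_pos p.1 with hp0 | hppos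
      · rw [hp0, (coeff_φ_zero hK P a).mp ha, zero_mul]
      by_cases h2 : p.2 ∈ poleOrders P
      swap; · rw [coeff_φ_eq_zero hK P f h2, mul_zero]
      have hap : p.2 ∈ Ap (poleOrders P) e := ⟨h2, fun h hh hhe =>
        hw.2 (h + p.1) (add_mem_poleOrders hK P hh h1) (by omega)⟩
      rw [hf _ hap (fun hm => hm.2 _ h1 hppos (by rwa [add_comm p.2, hp'])), mul_zero]
  have hzero : ∀ f : Rng P, mk f = 0 ↔ ∀ w ∈ Ap (poleOrders P) e, (φ hK P f).coeff w = 0 := fun f => by
    rw [Ideal.Quotient.eq_zero_iff_mem, mem_J_iff hK P he0 hx]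
  have hmon : ∀ s ∈ ApMax (poleOrders P) e, ∃ y : Rng P, φ hK P y = Polynomial.X ^ s ∧ mk y ≠ 0 ∧
      ∀ r ∈ IsLocalRing.maximalIdeal (Rng P ⧸ J P x), r * mk y = 0 := by
    intro s hs
    obtain ⟨y, -, hy⟩ := exists_lift hK P hs.1.1
    refine ⟨y, hy, fun h => ?_, (hsocle y).mpr fun w _ hwm => ?_⟩
    · have := (hzero y).mp h s hs.1
      rw [hy, Polynomial.coeff_X_pow_self] at this
      exact one_ne_zero this
    · rw [hy, Polynomial.coeff_X_pow, if_neg]
      rintro rfl; exact hwm hs
  constructor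
  · rintro ⟨t, -, htm, ht⟩
    obtain ⟨s, hs, -⟩ := exists_apMax_above hH0 (add_mem_poleOrders hK P) hc (zero_mem_ap hH0 he0)
    refine ⟨s, hs, fun s' hs' => ?_⟩
    by_contra hne
    obtain ⟨y, hy, hy0, hys⟩ := hmon s hs
    obtain ⟨y', hy', hy'0, hys'⟩ := hmon s' hs'
    obtain ⟨a, ha⟩ := ht _ hys
    obtain ⟨b, hb⟩ := ht _ hys'
    have hau : IsUnit a := by
      by_contra hau
      exact hy0 (ha.trans (htm a hau))
    obtain ⟨u, hu⟩ := Ideal.Quotient.mk_surjective (b * (↑hau.unit⁻¹ : Rng P ⧸ J P x))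
    have h1 : mk (y' - u * y) = 0 := by
      rw [map_sub, map_mul, hu, ha, hb, sub_eq_zero, mul_assoc, ← mul_assoc _ a, IsUnit.val_inv_mul, one_mul]
    have h2 := (hzero _).mp h1 s' hs'.1
    rw [map_sub, map_mul, Polynomial.coeff_sub, hy, hy', Polynomial.coeff_X_pow_self, sub_eq_zero,
      Polynomial.coeff_mul_X_pow'] at h2
    split_ifs at h2 with hle
    · by_cases hd : s' - s ∈ poleOrders P
      · exact hs.2 _ hd (by omega) (by rw [Nat.add_sub_cancel' hle]; exact hs'.1)
      · rw [coeff_φ_eq_zero hK P u hd] at h2; exact one_ne_zero h2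
    · exact one_ne_zero h2
  · rintro ⟨s, hs, huniq⟩
    obtain ⟨y, hy, hy0, hys⟩ := hmon s hs
    refine ⟨mk y, hy0, hys, fun z hz => ?_⟩
    obtain ⟨f, rfl⟩ := Ideal.Quotient.mk_surjective z
    refine ⟨mk (algebraMap k _ ((φ hK P f).coeff s)), ?_⟩
    rw [← map_mul, ← sub_eq_zero, ← map_sub, hzero]
    intro w hw
    rw [map_sub, map_mul, AlgHom.commutes, ← Polynomial.C_eq_algebraMap, hy, Polynomial.coeff_sub,
      Polynomial.coeff_C_mul_X_pow]
    split_ifs with hws
    · subst hws; rw [sub_self]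
    · rw [sub_zero]; exact (hsocle f).mp hz w hw fun hm => hws (huniq w hm)

include hK he0 hc hx in
theorem gorenstein_localization_iff [(mI P).IsPrime] [IsNoetherianRing (Rng P)]
    (A : Type u) [CommRing A] [IsLocalRing A] [Algebra (Rng P) A] [IsLocalization.AtPrime A (mI P)] :
    LocCoh.IsGorensteinLocalRing A ↔
      LocCoh.IsGorensteinLocalRing (Rng P ⧸ J P x) := by
  classical
  let M := (mI P).primeCompl
  haveI : IsNoetherianRing A := IsLocalization.isNoetherianRing M A inferInstance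
  let a := algebraMap (Rng P) A
  have hainj : Function.Injective a := IsLocalization.injective A (Ideal.primeCompl_le_nonZeroDivisors (mI P))
  have hTm : T P ∈ mI P := (mem_mI P).mpr Polynomial.coeff_X_zero
  have hT0 : T P ≠ 0 := fun h => Polynomial.X_ne_zero (congrArg Subtype.val h)
  have hxm : x ∈ mI P := (coeff_φ_zero hK P x).mpr (by rw [hx, Polynomial.coeff_X_pow, if_neg (by omega)])
  have haT : a (T P) ∈ IsLocalRing.maximalIdeal A :=
    (IsLocalization.AtPrime.to_map_mem_maximal_iff A (mI P) _).mpr hTm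
  haveI : IsDomain A := IsLocalization.isDomain_of_le_nonZeroDivisors (M := M) _ (Ideal.primeCompl_le_nonZeroDivisors (mI P))
  haveI : IsLocalRing (A ⧸ Ideal.span ({a (T P)} : Set A)) := GorLib.isLocalRing_quot_span haT
  set q := Ideal.Quotient.mk (Ideal.span ({a (T P)} : Set A))
  have hqx : q (a x) ∈ IsLocalRing.maximalIdeal _ := by
    haveI : IsLocalHom q := .of_surjective _ Ideal.Quotient.mk_surjective
    rw [IsLocalRing.mem_maximalIdeal, mem_nonunits_iff, isUnit_map_iff]
    exact (IsLocalRing.mem_maximalIdeal _).mp ((IsLocalization.AtPrime.to_map_mem_maximal_iff A (mI P) _).mpr hxm)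
  have hmapT : (Ideal.span {T P}).map a = Ideal.span ({a (T P)} : Set A) := by
    rw [Ideal.map_span, Set.image_singleton]
  have hreg : IsSMulRegular (A ⧸ Ideal.span ({a (T P)} : Set A)) (q (a x)) := by
    rw [isSMulRegular_iff_right_eq_zero_of_smul]
    intro z hz
    obtain ⟨z, rfl⟩ := Ideal.Quotient.mk_surjective z
    obtain ⟨r, s, rfl⟩ := IsLocalization.exists_mk'_eq M z
    rw [smul_eq_mul, ← map_mul, Ideal.Quotient.eq_zero_iff_mem] at hz
    have h1 : a (x * r) ∈ (Ideal.span {T P}).map a := by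
      rw [hmapT, map_mul, show a r = IsLocalization.mk' A r s * a s by rw [IsLocalization.mk'_spec], ← mul_assoc]
      exact Ideal.mul_mem_right _ _ hz
    obtain ⟨u, hu, hur⟩ := (IsLocalization.algebraMap_mem_map_algebraMap_iff M A _ _).mp h1
    rw [← ker_φ hK P, RingHom.mem_ker, map_mul, map_mul, hx] at hur
    have hu0 : φ hK P u ≠ 0 := fun h => hu ((coeff_φ_zero hK P u).mpr (by rw [h, Polynomial.coeff_zero]))
    have hr : φ hK P r = 0 := by simpa [hu0] using hur
    rw [Ideal.Quotient.eq_zero_iff_mem, IsLocalization.mk'_eq_mul_mk'_one, ← hmapT]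
    refine Ideal.mul_mem_right _ _ (Ideal.mem_map_of_mem _ ?_)
    rw [← ker_φ hK P]; exact hr
  refine (GorLib.gorenstein_quot_iff A _ haT
    (isSMulRegular_iff_right_eq_zero_of_smul.mpr fun z hz =>
      ((mul_eq_zero.mp hz).resolve_left fun h => hT0 (hainj (h.trans (map_zero a).symm))))).trans ?_
  refine (GorLib.gorenstein_quot_iff _ _ hqx hreg).trans (GorLib.gorenstein_iff_ringEquiv ?_)
  -- the quotient of the localization is the quotient
  let f : Rng P →+* (A ⧸ Ideal.span ({a (T P)} : Set A)) ⧸ Ideal.span {q (a x)} :=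
    (Ideal.Quotient.mk _).comp (q.comp a)
  have hf : ∀ r, f r = 0 ↔ r ∈ J P x := by
    intro r
    have hJ : (J P x).map a = Ideal.span ({a (T P)} : Set A) ⊔ Ideal.span {a x} := by
      rw [J, Ideal.map_sup, hmapT, Ideal.map_span, Set.image_singleton]
    have h1 : f r = 0 ↔ a r ∈ (J P x).map a := by
      rw [hJ]
      show Ideal.Quotient.mk _ (q (a r)) = 0 ↔ _
      rw [Ideal.Quotient.eq_zero_iff_mem, show Ideal.span ({q (a x)} : Set _) = (Ideal.span ({a x} : Set A)).map q by
        rw [Ideal.map_span, Set.image_singleton], ← Ideal.mem_comap,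
        Ideal.comap_map_of_surjective q Ideal.Quotient.mk_surjective, sup_comm,
        show Ideal.comap q ⊥ = RingHom.ker q from rfl, Ideal.mk_ker]
    rw [h1, IsLocalization.algebraMap_mem_map_algebraMap_iff M A]
    refine ⟨fun ⟨u, hu, hur⟩ => ?_, fun h => ⟨1, one_mem _, by rwa [one_mul]⟩⟩
    rw [← Ideal.Quotient.eq_zero_iff_mem, map_mul] at hur
    rw [← Ideal.Quotient.eq_zero_iff_mem]
    haveI := isLocal_quot hK P he0 hc hx
    refine (IsUnit.mul_right_eq_zero ?_).mp hur
    by_contra hnu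
    have hm : Ideal.Quotient.mk (J P x) u ∈ IsLocalRing.maximalIdeal (Rng P ⧸ J P x) := hnu
    haveI := mI_isMaximal hK P
    rw [(IsLocalRing.eq_maximalIdeal (Ideal.IsMaximal.map_of_surjective_of_ker_le (f := Ideal.Quotient.mk (J P x))
      Ideal.Quotient.mk_surjective (by rw [Ideal.mk_ker]; exact J_le hK P he0 hx) : ((mI P).map (Ideal.Quotient.mk (J P x))).IsMaximal)).symm,
      Ideal.mem_quotient_iff_mem (J_le hK P he0 hx)] at hm
    exact hu hm
  refine (RingEquiv.ofBijective (Ideal.Quotient.lift (J P x) f fun r hr => (hf r).mpr hr)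
    ⟨?_, fun z => ?_⟩).symm
  · rw [injective_iff_map_eq_zero]
    intro z hz
    obtain ⟨r, rfl⟩ := Ideal.Quotient.mk_surjective z
    exact Ideal.Quotient.eq_zero_iff_mem.mpr ((hf r).mp (by rwa [Ideal.Quotient.lift_mk] at hz))
  · obtain ⟨z, rfl⟩ := Ideal.Quotient.mk_surjective z
    obtain ⟨z, rfl⟩ := Ideal.Quotient.mk_surjective z
    obtain ⟨r, s, rfl⟩ := IsLocalization.exists_mk'_eq M z
    obtain ⟨t, ht⟩ : ∃ t : Rng P, 1 - t * s ∈ J P x := by
      haveI := isLocal_quot hK P he0 hc hx
      haveI := mI_isMaximal hK P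
      have hu : IsUnit (Ideal.Quotient.mk (J P x) (s : Rng P)) := by
        by_contra hnu
        have hm : Ideal.Quotient.mk (J P x) (s : Rng P) ∈ IsLocalRing.maximalIdeal (Rng P ⧸ J P x) := hnu
        rw [(IsLocalRing.eq_maximalIdeal (Ideal.IsMaximal.map_of_surjective_of_ker_le (f := Ideal.Quotient.mk (J P x))
          Ideal.Quotient.mk_surjective (by rw [Ideal.mk_ker]; exact J_le hK P he0 hx) : ((mI P).map (Ideal.Quotient.mk (J P x))).IsMaximal)).symm,
          Ideal.mem_quotient_iff_mem (J_le hK P he0 hx)] at hm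
        exact s.2 hm
      obtain ⟨w, hw⟩ := hu.exists_left_inv
      obtain ⟨t, rfl⟩ := Ideal.Quotient.mk_surjective w
      refine ⟨t, ?_⟩
      rw [← Ideal.Quotient.eq_zero_iff_mem, map_sub, map_one, map_mul, hw, sub_self]
    refine ⟨Ideal.Quotient.mk _ (r * t), ?_⟩
    rw [Ideal.Quotient.lift_mk]
    have h0 : f (1 - t * s) = 0 := (hf _).mpr ht
    show Ideal.Quotient.mk _ (q (a (r * t))) = Ideal.Quotient.mk _ (q (IsLocalization.mk' A r s))
    have h2 : a (r * t) = IsLocalization.mk' A r s - IsLocalization.mk' A r s * a (1 - t * s) := by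
      rw [map_mul, map_sub, map_one, map_mul, show a r = IsLocalization.mk' A r s * a s by rw [IsLocalization.mk'_spec]]
      ring
    rw [h2, map_sub, map_sub, map_mul, map_mul, show Ideal.Quotient.mk (Ideal.span {q (a x)}) (q (a (1 - t * s))) = 0 from h0, mul_zero, sub_zero]

end Quot

include hK in
/-- Gorenstein iff symmetric. -/
theorem isGorensteinRing_iff_isSymmetric (hg : 1 ≤ genus k K) :
    LocCoh.IsGorensteinRing (Rng P) ↔ IsSymmetric (poleOrders P) := by
  haveI := finiteType hK P hg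
  haveI : IsNoetherianRing (Rng P) := Algebra.FiniteType.isNoetherianRing k _
  haveI hmax := mI_isMaximal hK P
  obtain ⟨e, he0, he⟩ := exists_pos_mem_poleOrders hK P hg
  obtain ⟨x, -, hx⟩ := exists_lift hK P he
  have hc : ∀ n, 2 * genus k K ≤ n → n ∈ poleOrders P := by
    intro n hn
    simp only [poleOrders, Set.mem_setOf_eq, smul_single]
    have h1 := FF.ell_of_deg_large hK (D := Finsupp.single P ((n : ℤ))) (by rw [FF.deg_single_ac hK]; omega)
    have h2 := FF.ell_of_deg_large hK (D := Finsupp.single P ((n : ℤ) - 1)) (by rw [FF.deg_single_ac hK]; omega)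
    rw [FF.deg_single_ac hK] at h1 h2
    omega
  haveI := isLocal_quot hK P he0 hc hx
  rw [isSymmetric_iff_apMax (zero_mem_poleOrders hK P) (add_mem_poleOrders hK P) he he0 hc,
    ← simpleSocle_iff hK P he0 hc hx]
  haveI := isArtinian_quot hK P he0 hc hx
  have hloc := gorenstein_localization_iff hK P he0 hc hx (Localization.AtPrime (mI P))
  constructor
  · intro h
    exact GorLib.simpleSocle_of_gorenstein (hloc.mp (h.isGorensteinLocalRing_localization (mI P)))
  · intro h
    have hB := hloc.mpr (GorLib.gorenstein_of_simpleSocle h)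
    let 𝒜 := pieces P
    have hm := GrCoreLib.isStarLocal_irrH (pieces_neg P) (isField_deg0 hK P)
    have hmI : (GrCoreLib.irrH 𝒜).toIdeal = mI P := irr_eq hK P
    haveI : (GrCoreLib.irrH 𝒜).toIdeal.IsPrime := hmI ▸ hmax.isPrime
    have key : ∀ (I : Ideal (Rng P)) (_ : I.IsPrime), I = mI P → LocCoh.IsGorensteinLocalRing (Localization.AtPrime I) := by
      rintro I hI rfl; exact hB
    haveI : LocCoh.IsGorensteinLocalRing (Localization.AtPrime (GrCoreLib.irrH 𝒜).toIdeal) := key _ ‹_› hmI
    obtain ⟨d, hd⟩ := ‹LocCoh.IsGorensteinLocalRing (Localization.AtPrime (GrCoreLib.irrH 𝒜).toIdeal)›.exists_hasInjectiveDimensionLT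
    haveI := hd
    haveI : Module.Finite (Rng P) (GrLC.GMod.of 𝒜 (Rng P) 𝒜).carrier := Module.Finite.self (Rng P)
    have h1 : CategoryTheory.HasInjectiveDimensionLT (ModuleCat.of (Localization.AtPrime (GrCoreLib.irrH 𝒜).toIdeal)
        (LocalizedModule (GrCoreLib.irrH 𝒜).toIdeal.primeCompl (GrLC.GMod.of 𝒜 (Rng P) 𝒜).carrier)) (d + 1) :=
      @CategoryTheory.hasInjectiveDimensionLT_of_iso _ _ _ _ _
        ((Groth.Agent.Depth.localizedSelfEquiv (GrCoreLib.irrH 𝒜).toIdeal).toModuleIso).symm _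
        (CategoryTheory.hasInjectiveDimensionLT_of_ge _ d _ (Nat.le_succ d))
    have h2 := GrCoreLib.hasInjectiveDimensionLT_of_max hm (GrLC.GMod.of 𝒜 (Rng P) 𝒜) (d := d) h1
      fun p hp => hp.homogeneousCore
    exact ((GorLib.hasInjectiveDimensionLT_self_iff (Rng P)).1 ⟨_, h2⟩).1

end Groth.Agent.GrSectP
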